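/-
Bit masks for finite sets of `Fin n`, for kernel computations with small set systems.

Main results (namespace `Cfsg.Agent.SmallSteiner`):
* `maskOf`, `enc`, `subMask`, `permMask`, `masks`;
* `subMask_enc`, `enc_injective`, `enc_mem_masks`, `enc_image`.
-/
import Cfsg.Agent.EqLemmas

set_option autoImplicit false

namespace Cfsg.Agent.SmallSteiner

/-- The mask of a list of points. -/
def maskOf : List ℕ → ℕ
  | [] => 0
  | a :: l => (1 <<< a) ||| maskOf l

theorem testBit_maskOf (l : List ℕ) (i : ℕ) : (maskOf l).testBit i = decide (i ∈ l) := by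
  induction l with
  | nil => simp [maskOf]
  | cons a l ih =>
    rw [maskOf, Nat.testBit_lor, ih, Nat.one_shiftLeft, Nat.testBit_two_pow]
    simp [eq_comm]

/-- `a` is contained in `b`. -/
def subMask (a b : ℕ) : Bool := (a &&& b) == a

theorem subMask_iff {a b : ℕ} : subMask a b = true ↔ ∀ i, a.testBit i = true → b.testBit i = true := by
  rw [subMask, beq_iff_eq]
  constructor
  · intro h i hi
    rw [← h, Nat.testBit_land, Bool.and_eq_true] at hi
    exact hi.2
  · intro h
    apply Nat.eq_of_testBit_eq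
    intro i
    rw [Nat.testBit_land]
    cases hi : a.testBit i with
    | false => rfl
    | true => rw [h i hi]; rfl

/-- The mask of a finite set. -/
def enc {n : ℕ} (s : Finset (Fin n)) : ℕ := Nat.ofBits fun i => decide (i ∈ s)

variable {n : ℕ}

theorem testBit_enc (s : Finset (Fin n)) (i : ℕ) :
    (enc s).testBit i = true ↔ ∃ h : i < n, (⟨i, h⟩ : Fin n) ∈ s := by
  by_cases h : i < n
  · rw [enc, Nat.testBit_ofBits_lt _ i h]; simp [h]
  · rw [enc, Nat.testBit_ofBits_ge _ i (by omega)]; simp [h]

theorem testBit_enc_fin (s : Finset (Fin n)) (i : Fin n) : (enc s).testBit i.val = true ↔ i ∈ s := by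
  rw [testBit_enc]; exact ⟨fun ⟨_, h⟩ => h, fun h => ⟨i.2, h⟩⟩

theorem subMask_enc {s u : Finset (Fin n)} : subMask (enc s) (enc u) = true ↔ s ⊆ u := by
  rw [subMask_iff]
  constructor
  · intro h i hi
    exact (testBit_enc_fin u i).mp (h i.val ((testBit_enc_fin s i).mpr hi))
  · intro h i hi
    obtain ⟨hn, hs⟩ := (testBit_enc s i).mp hi
    exact (testBit_enc u i).mpr ⟨hn, h hs⟩

theorem enc_injective : Function.Injective (enc (n := n)) := by
  intro s u h
  ext i
  rw [← testBit_enc_fin s i, h, testBit_enc_fin]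

theorem enc_eq_maskOf {s : Finset (Fin n)} {l : List ℕ} (hl : ∀ i, i ∈ l ↔ ∃ h : i < n, (⟨i, h⟩ : Fin n) ∈ s) :
    enc s = maskOf l := by
  apply Nat.eq_of_testBit_eq
  intro i
  rw [Bool.eq_iff_iff, testBit_enc, testBit_maskOf, decide_eq_true_iff, hl]

theorem enc_eq_maskOf_map {s : Finset (Fin n)} {l : List (Fin n)} (hl : ∀ i, i ∈ l ↔ i ∈ s) :
    enc s = maskOf (l.map Fin.val) :=
  enc_eq_maskOf fun i => by
    constructor
    · intro h
      obtain ⟨j, hj, rfl⟩ := List.mem_map.mp h
      exact ⟨j.2, (hl j).mp hj⟩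
    · rintro ⟨h, hs⟩
      exact List.mem_map.mpr ⟨⟨i, h⟩, (hl _).mpr hs, rfl⟩

/-- The number of points of a mask below `n`. -/
def sizeMask (n m : ℕ) : ℕ := (List.range n).countP fun i => m.testBit i

/-- All masks of `k`-subsets of `n` points. -/
def masks (n k : ℕ) : List ℕ := (List.range (2 ^ n)).filter fun m => sizeMask n m == k

theorem sizeMask_enc (s : Finset (Fin n)) : sizeMask n (enc s) = s.card := by
  have h : (Finset.range n).filter (fun i => (enc s).testBit i = true) = s.map Fin.valEmbedding := by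
    ext i
    simp only [Finset.mem_filter, Finset.mem_range, Finset.mem_map, Fin.valEmbedding_apply, testBit_enc]
    constructor
    · rintro ⟨-, h, hs⟩; exact ⟨_, hs, rfl⟩
    · rintro ⟨j, hj, rfl⟩; exact ⟨j.2, j.2, hj⟩
  rw [← Finset.card_map Fin.valEmbedding, ← h, sizeMask, List.countP_eq_length_filter]
  simp [Finset.card_def, Finset.filter_val, Finset.range, Multiset.range]

theorem enc_mem_masks {s : Finset (Fin n)} {k : ℕ} (h : s.card = k) : enc s ∈ masks n k := by
  rw [masks, List.mem_filter, List.mem_range, beq_iff_eq]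
  exact ⟨Nat.ofBits_lt_two_pow _, by rw [sizeMask_enc, h]⟩

theorem exists_enc_of_mem_masks {k m : ℕ} (h : m ∈ masks n k) :
    ∃ s : Finset (Fin n), s.card = k ∧ enc s = m := by
  rw [masks, List.mem_filter, List.mem_range, beq_iff_eq] at h
  have he : enc (Finset.univ.filter fun i : Fin n => m.testBit i.val = true) = m := by
    apply Nat.eq_of_testBit_eq
    intro i
    rw [Bool.eq_iff_iff, testBit_enc]
    constructor
    · rintro ⟨hi, hm⟩; simpa using hm
    · intro hm
      have hi : i < n := by
        by_contra hi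
        rw [Nat.testBit_lt_two_pow (lt_of_lt_of_le h.1 (Nat.pow_le_pow_right (by omega) (not_lt.mp hi)))] at hm
        exact Bool.false_ne_true hm
      exact ⟨hi, by simpa using hm⟩
  exact ⟨_, by rw [← sizeMask_enc, he, h.2], he⟩

/-- The image of a mask under a list of images. -/
def permMask (n : ℕ) (σ : List ℕ) (m : ℕ) : ℕ :=
  maskOf (((List.range n).filter fun i => m.testBit i).map fun i => σ.getD i 0)

/-- The values of a self-map of `Fin n` as a list. -/
def imageList (f : Fin n → Fin n) : List ℕ := List.ofFn fun i => (f i).val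

theorem getD_imageList (f : Fin n → Fin n) (i : Fin n) : (imageList f).getD i.val 0 = (f i).val := by
  simp [imageList, List.getD_eq_getElem?_getD]

theorem enc_image (f : Fin n → Fin n) (s : Finset (Fin n)) :
    enc (s.image f) = permMask n (imageList f) (enc s) := by
  refine enc_eq_maskOf fun i => ?_
  simp only [List.mem_map, List.mem_filter, List.mem_range, Finset.mem_image]
  constructor
  · rintro ⟨a, ⟨ha, hs⟩, rfl⟩
    obtain ⟨_, hs'⟩ := (testBit_enc s a).mp hs
    rw [getD_imageList f ⟨a, ha⟩]
    exact ⟨(f _).2, ⟨a, ha⟩, hs', rfl⟩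
  · rintro ⟨hi, a, ha, hfa⟩
    exact ⟨a.val, ⟨a.2, (testBit_enc_fin s a).mpr ha⟩, by rw [getD_imageList, hfa]⟩

/-- The list describes a permutation of `n` points. -/
def isPermList (n : ℕ) (σ : List ℕ) : Bool :=
  σ.length == n && σ.all (fun a => a < n) && decide σ.Nodup

theorem exists_perm_of_isPermList {σ : List ℕ} (h : isPermList n σ = true) :
    ∃ e : Equiv.Perm (Fin n), imageList e = σ := by
  simp only [isPermList, Bool.and_eq_true, beq_iff_eq, List.all_eq_true, decide_eq_true_eq] at h
  obtain ⟨⟨hlen, hlt⟩, hnd⟩ := h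
  let f : Fin n → Fin n := fun i =>
    ⟨σ[i.val]'(hlen.symm ▸ i.2), hlt _ (List.getElem_mem _)⟩
  have hf : Function.Injective f := fun i j hij =>
    Fin.ext (hnd.getElem_inj_iff.mp (congrArg Fin.val hij))
  refine ⟨Equiv.ofBijective f (Finite.injective_iff_bijective.mp hf), ?_⟩
  refine List.ext_getElem (by simp [imageList, hlen]) fun i h1 h2 => ?_
  simp [imageList, f]

end Cfsg.Agent.SmallSteiner
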