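/-
Exhaustive search for Steiner systems on few points, checked by the kernel.

Main results (namespace `Cfsg.Agent.SmallSteiner`):
* `eq_of_subset`, `transport` : basic facts on Steiner systems;
* `checkUniq`, `iso_std` : a successful search makes every system containing the seed blocks isomorphic to the model;
* `exists_pins` : the seed blocks for `k = t + 1`.
-/
import Cfsg.Agent.Lib.Steiner.Mask

set_option autoImplicit false

namespace Cfsg.Agent.SmallSteiner

section basic

variable {α β : Type*} {t k : ℕ} {B B' : Set (Finset α)}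

theorem eq_of_sub {b b' s : Finset α} (hB : Cfsg.IsSteinerSystem t k B) (hb : b ∈ B) (hb' : b' ∈ B)
    (hs : t ≤ s.card) (h : s ⊆ b) (h' : s ⊆ b') : b = b' := by
  obtain ⟨u, hu, huc⟩ := Finset.exists_subset_card_eq hs
  obtain ⟨c, -, hc⟩ := hB.2 u huc
  rw [hc b ⟨hb, hu.trans h⟩, hc b' ⟨hb', hu.trans h'⟩]

theorem eq_of_subset (htk : t ≤ k) (hB : Cfsg.IsSteinerSystem t k B)
    (hB' : Cfsg.IsSteinerSystem t k B') (h : B ⊆ B') : B = B' := by
  refine Set.Subset.antisymm h fun b hb => ?_
  obtain ⟨u, hu, huc⟩ := Finset.exists_subset_card_eq (htk.trans (hB'.1 b hb).ge)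
  obtain ⟨c, ⟨hc, huc'⟩, -⟩ := hB.2 u huc
  rwa [eq_of_sub hB' hb (h hc) huc.ge hu huc']

theorem transport [DecidableEq β] (e : α ≃ β) (hB : Cfsg.IsSteinerSystem t k B) :
    Cfsg.IsSteinerSystem t k ((fun b => b.image e) '' B) := by
  classical
  refine ⟨?_, fun s hs => ?_⟩
  · rintro _ ⟨b, hb, rfl⟩
    rw [Finset.card_image_of_injective _ e.injective]; exact hB.1 b hb
  · obtain ⟨b, ⟨hb, hsb⟩, hu⟩ := hB.2 (s.image e.symm)
      (by rw [Finset.card_image_of_injective _ e.symm.injective, hs])
    refine ⟨b.image e, ⟨⟨b, hb, rfl⟩, fun x hx => ?_⟩, ?_⟩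
    · exact Finset.mem_image.mpr ⟨e.symm x, hsb (Finset.mem_image_of_mem _ hx), e.apply_symm_apply x⟩
    · rintro _ ⟨⟨c, hc, rfl⟩, hsc⟩
      refine congrArg (Finset.image e) (hu c ⟨hc, fun x hx => ?_⟩)
      obtain ⟨y, hy, rfl⟩ := Finset.mem_image.mp hx
      obtain ⟨z, hz, rfl⟩ := Finset.mem_image.mp (hsc hy)
      rwa [e.symm_apply_apply]

theorem iso_trans {γ : Type*} [DecidableEq β] [DecidableEq γ] {C : Set (Finset β)} {D : Set (Finset γ)}
    (h : Cfsg.SetSystemIso B C) (h' : Cfsg.SetSystemIso C D) : Cfsg.SetSystemIso B D := by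
  obtain ⟨e, rfl⟩ := h
  obtain ⟨f, rfl⟩ := h'
  refine ⟨e.trans f, ?_⟩
  rw [Set.image_image]
  exact Set.image_congr' fun b => by rw [Finset.image_image]; rfl

theorem iso_symm [DecidableEq α] [DecidableEq β] {C : Set (Finset β)} (h : Cfsg.SetSystemIso B C) :
    Cfsg.SetSystemIso C B := by
  obtain ⟨e, rfl⟩ := h
  refine ⟨e.symm, ?_⟩
  rw [Set.image_image]
  simp [Finset.image_image]

end basic

/-- Evaluate a number before use. -/
def force {β : Type*} (x : ℕ) (f : ℕ → β) : β :=
  match x with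
  | 0 => f 0
  | m + 1 => f (m + 1)

theorem force_eq {β : Type*} (x : ℕ) (f : ℕ → β) : force x f = f x := by cases x <;> rfl

/-- The bitmap of the masks obtained by deleting one point of `c`. -/
def bitsOf (n c : ℕ) : ℕ := maskOf (((List.range n).filter fun j => c.testBit j).map fun j => c ^^^ (1 <<< j))

theorem enc_erase {n : ℕ} {u : Finset (Fin n)} {j : Fin n} (hj : j ∈ u) :
    enc (u.erase j) = enc u ^^^ (1 <<< j.val) := by
  apply Nat.eq_of_testBit_eq
  intro i
  rw [Bool.eq_iff_iff, Nat.testBit_xor, testBit_enc, Nat.one_shiftLeft, Nat.testBit_two_pow]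
  by_cases hij : j.val = i
  · subst hij
    simp [(testBit_enc_fin u j).mpr hj]
  · rw [decide_eq_false hij, Bool.xor_false, testBit_enc]
    refine exists_congr fun h => ?_
    rw [Finset.mem_erase]
    exact ⟨fun h' => h'.2, fun h' => ⟨fun e => hij (congrArg Fin.val e).symm, h'⟩⟩

theorem enc_insert {n : ℕ} (s : Finset (Fin n)) (j : Fin n) :
    enc (insert j s) = enc s ||| (1 <<< j.val) := by
  apply Nat.eq_of_testBit_eq
  intro i
  rw [Bool.eq_iff_iff, Nat.testBit_lor, Bool.or_eq_true, testBit_enc, testBit_enc, Nat.one_shiftLeft,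
    Nat.testBit_two_pow, decide_eq_true_iff]
  constructor
  · rintro ⟨h, hi⟩
    rcases Finset.mem_insert.mp hi with hi | hi
    · exact Or.inr (congrArg Fin.val hi).symm
    · exact Or.inl ⟨h, hi⟩
  · rintro (⟨h, hi⟩ | rfl)
    · exact ⟨h, Finset.mem_insert_of_mem hi⟩
    · exact ⟨j.2, Finset.mem_insert_self ..⟩

theorem testBit_bitsOf {n : ℕ} (u : Finset (Fin n)) (i : ℕ) :
    (bitsOf n (enc u)).testBit i = true ↔ ∃ j ∈ u, i = enc (u.erase j) := by
  simp only [bitsOf, testBit_maskOf, decide_eq_true_iff, List.mem_map, List.mem_filter, List.mem_range]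
  constructor
  · rintro ⟨a, ⟨ha, hu⟩, rfl⟩
    obtain ⟨_, hu'⟩ := (testBit_enc u a).mp hu
    exact ⟨⟨a, ha⟩, hu', (enc_erase hu').symm⟩
  · rintro ⟨j, hj, rfl⟩
    exact ⟨j.val, ⟨j.2, (testBit_enc_fin u j).mpr hj⟩, (enc_erase hj).symm⟩

/-- Exact cover search: `cov` is the bitmap of the `t`-sets covered so far. -/
def search (n : ℕ) (leaf : List ℕ → Bool) : List ℕ → ℕ → List ℕ → Bool
  | [], _, ch => leaf ch
  | T :: ts, cov, ch =>
    if cov.testBit T then search n leaf ts cov ch
    else (List.range n).all fun j => T.testBit j ||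
      force (T ||| (1 <<< j)) fun c =>
        (cov &&& bitsOf n c != 0) || search n leaf ts (cov ||| bitsOf n c) (c :: ch)

theorem search_sound {n t : ℕ} (leaf : List ℕ → Bool) {B : Set (Finset (Fin n))}
    (hB : Cfsg.IsSteinerSystem t (t + 1) B) (allT : List ℕ)
    (hmasks : ∀ T, T ∈ allT ↔ T ∈ masks n t) :
    ∀ (ts : List ℕ) (cov : ℕ) (ch : List ℕ), (∀ T ∈ ts, T ∈ allT) →
      (∀ m ∈ ch, ∃ b ∈ B, enc b = m) →
      (∀ i, cov.testBit i = true ↔ ∃ m ∈ ch, (bitsOf n m).testBit i = true) →
      (∀ T ∈ allT, T ∈ ts ∨ cov.testBit T = true) →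
      search n leaf ts cov ch = true →
      ∃ L, leaf L = true ∧ ∀ b ∈ B, enc b ∈ L := by
  intro ts
  induction ts with
  | nil =>
    intro cov ch _ h1 h2 h3 h
    refine ⟨ch, by simpa [search] using h, fun b hb => ?_⟩
    obtain ⟨s, hsb, hs⟩ := Finset.exists_subset_card_eq (s := b) (n := t) (by rw [hB.1 b hb]; omega)
    rcases h3 (enc s) ((hmasks _).mpr (enc_mem_masks hs)) with h' | h'
    · simp at h'
    obtain ⟨m, hm, hbit⟩ := (h2 _).mp h'
    obtain ⟨b', hb', rfl⟩ := h1 m hm
    obtain ⟨j, hj, he⟩ := (testBit_bitsOf b' _).mp hbit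
    rw [eq_of_sub hB hb hb' hs.ge hsb (enc_injective he ▸ Finset.erase_subset j b')]
    exact hm
  | cons T ts ih =>
    intro cov ch hts h1 h2 h3 h
    have hts' : ∀ U ∈ ts, U ∈ allT := fun U hU => hts U (List.mem_cons_of_mem _ hU)
    by_cases hcov : cov.testBit T = true
    · refine ih cov ch hts' h1 h2 (fun U hU => ?_) (by simpa [search, hcov] using h)
      rcases h3 U hU with h' | h'
      · rcases List.mem_cons.mp h' with rfl | h''
        · exact Or.inr hcov
        · exact Or.inl h''
      · exact Or.inr h'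
    obtain ⟨s, hs, rfl⟩ := exists_enc_of_mem_masks ((hmasks _).mp (hts T (List.mem_cons_self ..)))
    obtain ⟨b, ⟨hb, hsb⟩, -⟩ := hB.2 s hs
    obtain ⟨j, hj, hjb⟩ : ∃ j, j ∉ s ∧ insert j s = b := by
      obtain ⟨j, hj⟩ := Finset.card_eq_one.mp (show (b \ s).card = 1 by
        rw [Finset.card_sdiff_of_subset hsb, hB.1 b hb, hs]; omega)
      have hj' := Finset.mem_sdiff.mp (hj ▸ Finset.mem_singleton_self j)
      exact ⟨j, hj'.2, Finset.eq_of_subset_of_card_le (Finset.insert_subset hj'.1 hsb)
        (by rw [hB.1 b hb, Finset.card_insert_of_notMem hj'.2, hs])⟩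
    simp only [search, if_neg hcov, List.all_eq_true, List.mem_range, Bool.or_eq_true, force_eq] at h
    have hjs : ¬ (enc s).testBit j.val = true := fun h' => hj ((testBit_enc_fin s j).mp h')
    have hcb : enc s ||| (1 <<< j.val) = enc b := by rw [← enc_insert, hjb]
    have hfree : cov &&& bitsOf n (enc b) = 0 := by
      apply Nat.eq_of_testBit_eq
      intro i
      rw [Nat.testBit_land, Nat.zero_testBit]
      by_contra hne
      rw [Bool.not_eq_false, Bool.and_eq_true] at hne
      obtain ⟨hi1, hi2⟩ := hne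
      obtain ⟨m, hm, hmi⟩ := (h2 i).mp hi1
      obtain ⟨b', hb', rfl⟩ := h1 m hm
      obtain ⟨a, ha, hea⟩ := (testBit_bitsOf b' i).mp hmi
      obtain ⟨a', ha', hea'⟩ := (testBit_bitsOf b i).mp hi2
      have heq : b = b' := eq_of_sub hB hb hb' (s := b.erase a')
        (by rw [Finset.card_erase_of_mem ha', hB.1 b hb]; omega) (Finset.erase_subset _ _)
        (enc_injective (hea.symm.trans hea') ▸ Finset.erase_subset a b')
      refine hcov ((h2 _).mpr ⟨_, hm, (testBit_bitsOf b' _).mpr ⟨j, ?_, ?_⟩⟩)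
      · rw [← heq, ← hjb]; exact Finset.mem_insert_self ..
      · rw [← heq, ← hjb, Finset.erase_insert hj]
    rcases h j.val j.2 with h' | h' | h'
    · exact absurd h' hjs
    · rw [hcb, hfree] at h'; simp at h'
    rw [hcb] at h'
    refine ih _ _ hts' ?_ ?_ ?_ h'
    · intro m hm
      rcases List.mem_cons.mp hm with rfl | hm
      · exact ⟨b, hb, rfl⟩
      · exact h1 m hm
    · intro i
      rw [Nat.testBit_lor, Bool.or_eq_true, h2]
      simp only [List.mem_cons, exists_eq_or_imp]
      exact or_comm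
    · intro U hU
      rw [Nat.testBit_lor, Bool.or_eq_true]
      rcases h3 U hU with h'' | h''
      · rcases List.mem_cons.mp h'' with rfl | h''
        · exact Or.inr (Or.inr ((testBit_bitsOf b _).mpr
            ⟨j, hjb ▸ Finset.mem_insert_self .., by rw [← hjb, Finset.erase_insert hj]⟩))
        · exact Or.inl h''
      · exact Or.inr (Or.inl h'')

/-- Some certificate maps the chosen blocks into the model. -/
def leafCert (n : ℕ) (std : List ℕ) (certs : List (List ℕ)) (ch : List ℕ) : Bool :=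
  certs.any fun σ => isPermList n σ && ch.all fun m => std.contains (permMask n σ m)

/-- Every system containing `seed` is certified isomorphic to the model; `targets` lists all `t`-sets. -/
def checkUniq (n : ℕ) (std seed targets : List ℕ) (certs : List (List ℕ)) : Bool :=
  search n (leafCert n std certs) targets (seed.foldl (fun a b => a ||| bitsOf n b) 0) seed

/-- The model is a Steiner system. -/
def checkSys (n t k : ℕ) (std : List ℕ) : Bool :=
  std.all (fun b => sizeMask n b == k && b < 2 ^ n) &&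
    (masks n t).all fun u => (std.filter fun b => subMask u b).length == 1

variable {n t k : ℕ}

/-- The set system given by a list of masks. -/
def stdSet (n : ℕ) (std : List ℕ) : Set (Finset (Fin n)) := {s | enc s ∈ std}

theorem isSteiner_stdSet {std : List ℕ} (h : checkSys n t k std = true) :
    Cfsg.IsSteinerSystem t k (stdSet n std) := by
  simp only [checkSys, Bool.and_eq_true, List.all_eq_true, beq_iff_eq, decide_eq_true_eq] at h
  refine ⟨fun b hb => by rw [← sizeMask_enc]; exact (h.1 _ hb).1, fun s hs => ?_⟩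
  obtain ⟨m, hm⟩ := List.length_eq_one_iff.mp (h.2 _ (enc_mem_masks hs))
  have hmem : ∀ b, (b ∈ std ∧ subMask (enc s) b = true) ↔ b = m := fun b => by
    have : b ∈ std.filter (fun b => subMask (enc s) b) ↔ b ∈ std ∧ subMask (enc s) b = true := List.mem_filter
    rw [hm, List.mem_singleton] at this
    exact this.symm
  obtain ⟨hm1, hm2⟩ := (hmem m).mpr rfl
  obtain ⟨u, -, rfl⟩ := exists_enc_of_mem_masks (n := n) (k := k) (m := m)
    (List.mem_filter.mpr ⟨List.mem_range.mpr (h.1 m hm1).2, beq_iff_eq.mpr (h.1 m hm1).1⟩)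
  refine ⟨u, ⟨hm1, subMask_enc.mp hm2⟩, ?_⟩
  rintro c ⟨hc, hsc⟩
  exact enc_injective ((hmem _).mp ⟨hc, subMask_enc.mpr hsc⟩)

theorem iso_std {std seed targets : List ℕ} {certs : List (List ℕ)}
    (hsys : checkSys n t (t + 1) std = true) (htar : ∀ T, T ∈ targets ↔ T ∈ masks n t)
    (hchk : checkUniq n std seed targets certs = true)
    {B : Set (Finset (Fin n))} (hB : Cfsg.IsSteinerSystem t (t + 1) B)
    (hseed : ∀ m ∈ seed, ∃ s ∈ B, enc s = m) :
    Cfsg.SetSystemIso B (stdSet n std) := by
  rw [checkUniq] at hchk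
  have hfold : ∀ (l : List ℕ) (a i : ℕ), (l.foldl (fun a b => a ||| bitsOf n b) a).testBit i = true ↔
      a.testBit i = true ∨ ∃ m ∈ l, (bitsOf n m).testBit i = true := by
    intro l
    induction l with
    | nil => simp
    | cons c l ih => intro a i; simp [ih, or_assoc]
  obtain ⟨L, hL, hLB⟩ := search_sound (leafCert n std certs) hB targets htar
    _ _ _ (fun T hT => hT) hseed (fun i => by simp [hfold]) (fun T hT => Or.inl hT) hchk
  simp only [leafCert, List.any_eq_true, Bool.and_eq_true, List.all_eq_true, List.contains_eq_mem,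
    decide_eq_true_eq] at hL
  obtain ⟨σ, -, hσ, hmap⟩ := hL
  obtain ⟨e, rfl⟩ := exists_perm_of_isPermList hσ
  refine ⟨e, eq_of_subset (Nat.le_succ t) (transport e hB) (isSteiner_stdSet hsys) ?_⟩
  rintro _ ⟨b, hb, rfl⟩
  show enc (b.image e) ∈ std
  rw [enc_image]
  exact hmap _ (hLB b hb)

/-- The seed: a block `D + c₀ + c₁ + c₂`, an outside point `x` and three blocks `D + c + x + z`. -/
theorem exists_pins {α : Type*} [DecidableEq α] {B : Set (Finset α)} (hB : Cfsg.IsSteinerSystem t (t + 1) B)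
    {D : Finset α} {c₀ c₁ c₂ x : α} (hD : D.card + 2 = t) (hc : [c₀, c₁, c₂].Nodup)
    (hc₀ : c₀ ∉ D) (hc₁ : c₁ ∉ D) (hc₂ : c₂ ∉ D)
    (hb : insert c₀ (insert c₁ (insert c₂ D)) ∈ B) (hx : x ∉ insert c₀ (insert c₁ (insert c₂ D))) :
    ∃ z : Fin 3 → α, Function.Injective z ∧ (∀ j, z j ≠ x ∧ z j ∉ insert c₀ (insert c₁ (insert c₂ D))) ∧
      ∀ j, insert (z j) (insert x (insert (![c₀, c₁, c₂] j) D)) ∈ B := by
  set b := insert c₀ (insert c₁ (insert c₂ D)) with hbdef
  set c : Fin 3 → α := ![c₀, c₁, c₂] with hcdef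
  have hcb : ∀ j, c j ∈ b ∧ c j ∉ D := by
    intro j; fin_cases j <;> simp [hcdef, hbdef, hc₀, hc₁, hc₂]
  have hDb : D ⊆ b := fun a ha => by simp [hbdef, ha]
  have hcinj : Function.Injective c := by
    rw [← List.nodup_ofFn]
    simpa [hcdef] using hc
  have hxD : x ∉ D := fun h => hx (hDb h)
  have hxc : ∀ j, x ≠ c j := fun j h => hx (h ▸ (hcb j).1)
  have key : ∀ j, ∃ z, (z ≠ x ∧ z ∉ b) ∧ insert z (insert x (insert (c j) D)) ∈ B := by
    intro j
    have hcard : (insert x (insert (c j) D)).card = t := by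
      rw [Finset.card_insert_of_notMem (by simp [hxD, hxc j]), Finset.card_insert_of_notMem (hcb j).2, ← hD]
    obtain ⟨e, ⟨he, hsub⟩, -⟩ := hB.2 _ hcard
    obtain ⟨z, hz⟩ : ∃ z, e \ insert x (insert (c j) D) = {z} := Finset.card_eq_one.mp (by
      rw [Finset.card_sdiff_of_subset hsub, hB.1 e he, hcard]; omega)
    have hze : z ∈ e ∧ z ∉ insert x (insert (c j) D) := Finset.mem_sdiff.mp (hz ▸ Finset.mem_singleton_self z)
    have heq : insert z (insert x (insert (c j) D)) = e := by
      refine Finset.eq_of_subset_of_card_le (Finset.insert_subset hze.1 hsub) ?_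
      rw [hB.1 e he, Finset.card_insert_of_notMem hze.2, hcard]
    refine ⟨z, ⟨fun h => hze.2 (by simp [h]), fun hzb => hx ?_⟩, heq.symm ▸ he⟩
    have : e = b := by
      refine eq_of_sub hB he hb (s := insert z (insert (c j) D)) ?_ ?_ ?_
      · rw [Finset.card_insert_of_notMem (fun h => hze.2 (Finset.mem_insert_of_mem h)),
          Finset.card_insert_of_notMem (hcb j).2]
        omega
      · exact Finset.insert_subset hze.1 ((Finset.subset_insert _ _).trans hsub)
      · exact Finset.insert_subset hzb (Finset.insert_subset (hcb j).1 hDb)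
    exact this ▸ hsub (Finset.mem_insert_self ..)
  choose z hz hzB using key
  refine ⟨z, fun i j hij => ?_, hz, hzB⟩
  by_contra hne
  have hzD : ∀ j, z j ∉ insert x D := fun j h => by
    rcases Finset.mem_insert.mp h with h | h
    · exact (hz j).1 h
    · exact (hz j).2 (hDb h)
  have hsame := eq_of_sub hB (hzB i) (hzB j) (s := insert (z i) (insert x D))
    (by rw [Finset.card_insert_of_notMem (hzD i), Finset.card_insert_of_notMem hxD]; omega)
    (Finset.insert_subset_insert _ (Finset.insert_subset_insert _ (Finset.subset_insert _ _)))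
    (by rw [hij]; exact Finset.insert_subset_insert _ (Finset.insert_subset_insert _ (Finset.subset_insert _ _)))
  have hblock := eq_of_sub hB (hzB i) hb (s := insert (c i) (insert (c j) D))
    (by rw [Finset.card_insert_of_notMem (by simp [(hcb i).2, hcinj.ne hne]),
      Finset.card_insert_of_notMem (hcb j).2]; omega)
    (Finset.insert_subset (by simp) (Finset.insert_subset (hsame ▸ by simp) fun a ha => by simp [ha]))
    (Finset.insert_subset (hcb i).1 (Finset.insert_subset (hcb j).1 hDb))
  exact hx (hblock ▸ by simp)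

end Cfsg.Agent.SmallSteiner
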