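/-
Sharp transitivity of the automorphism group of a small Steiner system, checked by the kernel.

Main results (namespace `Cfsg.Agent.SmallSteiner`):
* `mem_aut_iff` : membership in `Cfsg.setSystemAut` through inclusion;
* `transitive_std`, `rigid_std` : certificates for the model;
* `sharp_of_iso` : sharp transitivity transported to an isomorphic system.
-/
import Cfsg.Agent.Lib.Steiner.Search

set_option autoImplicit false

open scoped Pointwise

namespace Cfsg.Agent.SmallSteiner

theorem mem_aut_iff {α : Type*} [DecidableEq α] [Finite α] (B : Set (Finset α)) (σ : Equiv.Perm α) :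
    σ ∈ Cfsg.setSystemAut B ↔ ∀ b ∈ B, b.image σ ∈ B := by
  classical
  rw [MulAction.mem_stabilizer_set' B.toFinite]
  exact Iff.rfl

variable {n t k : ℕ}

/-- The list of images describes an automorphism. -/
def isAutList (n : ℕ) (std σ : List ℕ) : Bool :=
  isPermList n σ && std.all fun m => std.contains (permMask n σ m)

theorem exists_aut_of_isAutList {std σ : List ℕ} (h : isAutList n std σ = true) :
    ∃ e : Equiv.Perm (Fin n), e ∈ Cfsg.setSystemAut (stdSet n std) ∧ imageList e = σ := by
  simp only [isAutList, Bool.and_eq_true, List.all_eq_true, List.contains_eq_mem, decide_eq_true_eq] at h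
  obtain ⟨e, rfl⟩ := exists_perm_of_isPermList h.1
  refine ⟨e, (mem_aut_iff _ e).mpr fun b hb => ?_, rfl⟩
  show enc (b.image e) ∈ std
  rw [enc_image]
  exact h.2 _ hb

theorem isAutList_of_mem {std : List ℕ} (hstd : ∀ m ∈ std, m ∈ masks n k) {e : Equiv.Perm (Fin n)}
    (he : e ∈ Cfsg.setSystemAut (stdSet n std)) : isAutList n std (imageList e) = true := by
  simp only [isAutList, isPermList, Bool.and_eq_true, beq_iff_eq, List.all_eq_true, List.contains_eq_mem,
    decide_eq_true_eq]
  refine ⟨⟨⟨by simp [imageList], ?_⟩, ?_⟩, fun m hm => ?_⟩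
  · intro a ha
    rw [imageList, List.mem_ofFn] at ha
    obtain ⟨i, rfl⟩ := ha
    exact (e i).2
  · exact List.nodup_ofFn.mpr (Fin.val_injective.comp e.injective)
  · obtain ⟨s, -, rfl⟩ := exists_enc_of_mem_masks (hstd m hm)
    rw [← enc_image]
    exact (mem_aut_iff _ e).mp he s hm

/-- Transitivity certificates, level by level. -/
def checkTrans (n t : ℕ) (std : List ℕ) (certs : List (List (List ℕ))) : Bool :=
  (List.range t).all fun i => (List.range n).all fun j => decide (j < i) ||
    (certs.getD i []).any fun σ =>
      (List.range i).all (fun a => σ.getD a 0 == a) && σ.getD i 0 == j && isAutList n std σ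

theorem transitive_std {std : List ℕ} {certs : List (List (List ℕ))} (htn : t ≤ n)
    (h : checkTrans n t std certs = true) (x y : Fin t ↪ Fin n) :
    ∃ σ ∈ Cfsg.setSystemAut (stdSet n std), ∀ i, σ (x i) = y i := by
  simp only [checkTrans, List.all_eq_true, List.mem_range, Bool.or_eq_true, decide_eq_true_eq,
    List.any_eq_true, Bool.and_eq_true, beq_iff_eq] at h
  have step : ∀ (z : Fin t ↪ Fin n) (i : ℕ), i ≤ t →
      ∃ g ∈ Cfsg.setSystemAut (stdSet n std), ∀ j : Fin t, j.val < i → (g (z j)).val = j.val := by
    intro z i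
    induction i with
    | zero => exact fun _ => ⟨1, one_mem _, fun j hj => absurd hj (Nat.not_lt_zero _)⟩
    | succ i ih =>
      intro hi
      obtain ⟨g, hg, hgz⟩ := ih (by omega)
      set w := g (z ⟨i, by omega⟩) with hw
      have hwi : i ≤ w.val := by
        by_contra hlt
        have h1 := hgz ⟨w.val, by omega⟩ (by simpa using hlt)
        have h2 : z ⟨w.val, by omega⟩ = z ⟨i, by omega⟩ := g.injective (Fin.ext h1)
        have := congrArg Fin.val (z.injective h2)
        simp at this
        omega
      rcases h i (by omega) w.val w.2 with h' | ⟨σ, -, ⟨hfix, hto⟩, haut⟩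
      · omega
      obtain ⟨e, he, rfl⟩ := exists_aut_of_isAutList haut
      refine ⟨e⁻¹ * g, mul_mem (inv_mem he) hg, fun j hj => ?_⟩
      have hval : ∀ a : Fin n, (e a).val = (imageList e).getD a.val 0 := fun a => (getD_imageList e a).symm
      rcases Nat.lt_succ_iff_lt_or_eq.mp hj with hj | hj
      · have h1 : e (g (z j)) = g (z j) := Fin.ext (by rw [hval, hgz j hj, hfix j.val hj])
        rw [Equiv.Perm.mul_apply, Equiv.Perm.inv_def, e.symm_apply_eq.mpr h1.symm, hgz j hj]
      · have h1 : e ⟨i, by omega⟩ = w := Fin.ext (by rw [hval]; exact hto)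
        have hji : j = ⟨i, by omega⟩ := Fin.ext hj
        rw [hji, Equiv.Perm.mul_apply, Equiv.Perm.inv_def, ← hw, e.symm_apply_eq.mpr h1.symm]
  obtain ⟨g, hg, hgx⟩ := step x t le_rfl
  obtain ⟨g', hg', hgy⟩ := step y t le_rfl
  refine ⟨g'⁻¹ * g, mul_mem (inv_mem hg') hg, fun i => ?_⟩
  rw [Equiv.Perm.mul_apply, Equiv.Perm.inv_def, Equiv.symm_apply_eq]
  exact Fin.ext (by rw [hgx i i.2, hgy i i.2])

/-- All ways to continue a partial automorphism along a recipe. -/
def extend (n : ℕ) (std : List ℕ) : List (Option (List ℕ)) → List ℕ → List (List ℕ)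
  | [], acc => [acc]
  | none :: rest, acc => (List.range n).flatMap fun j => extend n std rest (acc ++ [j])
  | some r :: rest, acc =>
    ((List.range n).filter fun j => std.contains (maskOf (j :: r.map fun a => acc.getD a 0))).flatMap
      fun j => extend n std rest (acc ++ [j])

/-- The recipe only uses earlier points, and each step is a block of the model. -/
def checkRecipe (n : ℕ) (std : List ℕ) : List (Option (List ℕ)) → ℕ → Bool
  | [], m => m == n
  | none :: rest, m => decide (m < n) && checkRecipe n std rest (m + 1)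
  | some r :: rest, m =>
    decide (m < n) && r.all (fun a => a < m) && std.contains (maskOf (m :: r)) && checkRecipe n std rest (m + 1)

/-- Every continuation of the identity on `t` points is trivial or not an automorphism. -/
def checkRigid (n t : ℕ) (std : List ℕ) (recipe : List (Option (List ℕ))) : Bool :=
  checkRecipe n std recipe t &&
    (extend n std recipe (List.range t)).all fun σ => σ == List.range n || !isAutList n std σ

theorem mem_extend {std : List ℕ} {e : Equiv.Perm (Fin n)} (he : e ∈ Cfsg.setSystemAut (stdSet n std)) :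
    ∀ (recipe : List (Option (List ℕ))) (m : ℕ), checkRecipe n std recipe m = true →
      imageList e ∈ extend n std recipe ((imageList e).take m) := by
  intro recipe
  induction recipe with
  | nil =>
    intro m hm
    simp only [checkRecipe, beq_iff_eq] at hm
    simp [extend, hm, List.take_of_length_le, imageList]
  | cons o rest ih =>
    intro m hm
    have hlen : (imageList e).length = n := by simp [imageList]
    have hstep : ∀ hmn : m < n, (imageList e).take m ++ [(e ⟨m, hmn⟩).val] = (imageList e).take (m + 1) := by
      intro hmn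
      rw [List.take_add_one, List.getElem?_eq_getElem (by omega)]
      simp [imageList]
    cases o with
    | none =>
      simp only [checkRecipe, Bool.and_eq_true, decide_eq_true_eq] at hm
      simp only [extend, List.mem_flatMap, List.mem_range]
      exact ⟨(e ⟨m, hm.1⟩).val, (e _).2, hstep hm.1 ▸ ih _ hm.2⟩
    | some r =>
      simp only [checkRecipe, Bool.and_eq_true, decide_eq_true_eq, List.all_eq_true, List.contains_eq_mem] at hm
      obtain ⟨⟨⟨hmn, hr⟩, hblock⟩, hrest⟩ := hm
      simp only [extend, List.mem_flatMap, List.mem_filter, List.mem_range, List.contains_eq_mem, decide_eq_true_eq]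
      refine ⟨(e ⟨m, hmn⟩).val, ⟨(e _).2, ?_⟩, hstep hmn ▸ ih _ hrest⟩
      let s : Finset (Fin n) := Finset.univ.filter fun i => i.val ∈ m :: r
      have hs : enc s = maskOf (m :: r) := enc_eq_maskOf fun i => by
        constructor
        · intro hi
          have hin : i < n := by
            rcases List.mem_cons.mp hi with rfl | hi'
            · exact hmn
            · exact lt_trans (hr i hi') hmn
          exact ⟨hin, by simpa [s] using hi⟩
        · rintro ⟨_, hi⟩; simpa [s] using hi
      have hblock' := (mem_aut_iff _ e).mp he s (show enc s ∈ std from hs ▸ hblock)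
      convert (show enc (s.image e) ∈ std from hblock') using 1
      refine (enc_eq_maskOf fun i => ?_).symm
      have hget : ∀ a (ha : a ∈ r), ((imageList e).take m).getD a 0 = (e ⟨a, lt_trans (hr a ha) hmn⟩).val := by
        intro a ha
        simp [List.getD_eq_getElem?_getD, hr a ha, imageList, lt_trans (hr a ha) hmn]
      simp only [List.mem_cons, List.mem_map, Finset.mem_image, s, Finset.mem_filter, Finset.mem_univ, true_and]
      constructor
      · rintro (rfl | ⟨a, ha, rfl⟩)
        · exact ⟨(e _).2, ⟨m, hmn⟩, Or.inl rfl, rfl⟩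
        · rw [hget a ha]
          exact ⟨(e _).2, ⟨a, lt_trans (hr a ha) hmn⟩, Or.inr ha, rfl⟩
      · rintro ⟨hi, a, ha, hea⟩
        rcases ha with ha | ha
        · left
          have : a = ⟨m, hmn⟩ := Fin.ext ha
          rw [← this, hea]
        · right
          exact ⟨a.val, ha, by rw [hget a.val ha]; exact congrArg Fin.val hea⟩

theorem rigid_std {std : List ℕ} {recipe : List (Option (List ℕ))} (htn : t ≤ n)
    (hstd : ∀ m ∈ std, m ∈ masks n k) (h : checkRigid n t std recipe = true) {e : Equiv.Perm (Fin n)}
    (he : e ∈ Cfsg.setSystemAut (stdSet n std)) (hfix : ∀ i : Fin t, (e (Fin.castLE htn i)).val = i.val) :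
    e = 1 := by
  simp only [checkRigid, Bool.and_eq_true, List.all_eq_true, Bool.or_eq_true, beq_iff_eq, Bool.not_eq_true'] at h
  have htake : (imageList e).take t = List.range t := by
    refine List.ext_getElem (by simp [imageList, htn]) fun i h1 h2 => ?_
    rw [List.length_range] at h2
    rw [List.getElem_take, List.getElem_range]
    simpa [imageList] using hfix ⟨i, h2⟩
  have hmem := mem_extend he recipe t h.1
  rw [htake] at hmem
  rcases h.2 _ hmem with h' | h'
  · ext i
    have := congrArg (fun l => l.getD i.val 0) h'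
    simpa [List.getD_eq_getElem?_getD, imageList] using this
  · rw [isAutList_of_mem hstd he] at h'
    exact absurd h'.symm Bool.false_ne_true

/-- Sharp `t`-transitivity of the automorphism group, transported along an isomorphism. -/
theorem sharp_of_iso {α : Type*} [DecidableEq α] [Fintype α] (t : ℕ) {B : Set (Finset α)}
    {C : Set (Finset (Fin n))} (htn : t ≤ n) (hiso : Cfsg.SetSystemIso B C)
    (htrans : ∀ x y : Fin t ↪ Fin n, ∃ σ ∈ Cfsg.setSystemAut C, ∀ i, σ (x i) = y i)
    (hrigid : ∀ σ ∈ Cfsg.setSystemAut C, (∀ i : Fin t, (σ (Fin.castLE htn i)).val = i.val) → σ = 1) :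
    MulAction.IsMultiplyPretransitive (Cfsg.setSystemAut B) α t ∧
      ∀ x : Fin t ↪ α, MulAction.stabilizer (Cfsg.setSystemAut B) x = ⊥ := by
  obtain ⟨e, rfl⟩ := hiso
  have hmem : ∀ b : Finset α, b ∈ B ↔ b.image e ∈ (fun b => b.image e) '' B :=
    fun b => ((Finset.image_injective e.injective).mem_set_image).symm
  have hpull : ∀ σ ∈ Cfsg.setSystemAut ((fun b => b.image e) '' B), e.symm.permCongr σ ∈ Cfsg.setSystemAut B := by
    intro σ hσ
    rw [mem_aut_iff]
    intro b hb
    rw [hmem]
    have h := (mem_aut_iff _ σ).mp hσ _ ((hmem b).mp hb)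
    convert h using 1
    rw [Finset.image_image, Finset.image_image]
    congr 1
    funext a
    simp
  have hpush : ∀ τ ∈ Cfsg.setSystemAut B, e.permCongr τ ∈ Cfsg.setSystemAut ((fun b => b.image e) '' B) := by
    intro τ hτ
    rw [mem_aut_iff]
    rintro _ ⟨b, hb, rfl⟩
    refine ⟨_, (mem_aut_iff _ τ).mp hτ b hb, ?_⟩
    simp only [Finset.image_image]
    congr 1
    funext a
    simp
  constructor
  · refine MulAction.isMultiplyPretransitive_iff.mpr fun {x y} => ?_
    obtain ⟨σ, hσ, hxy⟩ := htrans (x.trans e.toEmbedding) (y.trans e.toEmbedding)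
    refine ⟨⟨e.symm.permCongr σ, hpull σ hσ⟩, DFunLike.ext _ _ fun i => ?_⟩
    show e.symm.permCongr σ (x i) = y i
    have := hxy i
    simp only [Function.Embedding.trans_apply, Equiv.coe_toEmbedding] at this
    simp [this]
  · intro x
    refine (Subgroup.eq_bot_iff_forall _).mpr fun τ hτ => ?_
    have hτx : ∀ i, (τ : Equiv.Perm α) (x i) = x i := fun i => DFunLike.congr_fun hτ i
    obtain ⟨σ, hσ, hσx⟩ := htrans (Fin.castLEEmb htn) (x.trans e.toEmbedding)
    have hfix : σ⁻¹ * e.permCongr (τ : Equiv.Perm α) * σ = 1 := by
      refine hrigid _ (mul_mem (mul_mem (inv_mem hσ) (hpush _ τ.2)) hσ) fun i => ?_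
      have h0 : σ (Fin.castLE htn i) = e (x i) := hσx i
      have h1 : e.permCongr (τ : Equiv.Perm α) (σ (Fin.castLE htn i)) = σ (Fin.castLE htn i) := by
        rw [h0]; simp [hτx]
      rw [Equiv.Perm.mul_apply, Equiv.Perm.mul_apply, h1, Equiv.Perm.inv_def, σ.symm_apply_apply]
      rfl
    have h1 : e.permCongr (τ : Equiv.Perm α) = 1 := by
      have := congrArg (fun s => σ * s * σ⁻¹) hfix
      simpa [mul_assoc] using this
    apply Subtype.ext
    apply Equiv.ext
    intro a
    have := Equiv.congr_fun h1 (e a)
    simpa using this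

end Cfsg.Agent.SmallSteiner
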