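/-
The Steiner system S(4, 5, 11): model, uniqueness and sharply 4-transitive automorphism group.

Main results (namespace `Cfsg.Agent.SmallSteiner`):
* `iso_std11` : every S(4, 5, 11) is isomorphic to the model;
* `sharp11` : its automorphism group is sharply 4-transitive.
-/
import Cfsg.Agent.Lib.Steiner.Aut

set_option autoImplicit false

namespace Cfsg.Agent.SmallSteiner

/-- The model. -/
def std11 : List ℕ :=
   [31, 103, 122, 171, 188, 205, 214, 241, 301, 307, 334, 345,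
    372, 405, 410, 422, 451, 488, 558, 565, 595, 604, 617, 647,
    665, 690, 714, 740, 779, 790, 824, 837, 866, 908, 929, 976,
    1078, 1081, 1099, 1109, 1132, 1166, 1171, 1189, 1240, 1250, 1287, 1308,
    1322, 1362, 1377, 1417, 1456, 1476, 1549, 1562, 1571, 1606, 1648, 1684,
    1704, 1729, 1809, 1828, 1864, 1922]

/-- The seed blocks. -/
def seed11 : List ℕ := [31, 103, 171, 307]

/-- Isomorphisms from the systems found by the search to the model. -/
def certs11 : List (List ℕ) :=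
   [[0, 1, 2, 3, 4, 5, 6, 7, 8, 9, 10],
    [0, 1, 2, 3, 4, 8, 10, 9, 5, 7, 6],
    [0, 1, 2, 3, 4, 7, 9, 5, 10, 6, 8],
    [0, 1, 2, 3, 4, 9, 7, 8, 6, 10, 5],
    [0, 1, 2, 3, 4, 10, 8, 6, 7, 5, 9],
    [0, 1, 2, 3, 4, 6, 5, 10, 9, 8, 7],
    [0, 1, 2, 3, 4, 8, 10, 9, 5, 6, 7],
    [0, 1, 2, 3, 4, 5, 6, 7, 8, 10, 9],
    [0, 1, 2, 3, 4, 10, 8, 6, 7, 9, 5],
    [0, 1, 2, 3, 4, 6, 5, 10, 9, 7, 8],
    [0, 1, 2, 3, 4, 7, 9, 5, 10, 8, 6],
    [0, 1, 2, 3, 4, 9, 7, 8, 6, 5, 10]]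

/-- Automorphisms: level `i` fixes the points below `i` and moves `i` anywhere. -/
def trans11 : List (List (List ℕ)) :=
  [[[0, 1, 2, 3, 4, 5, 6, 7, 8, 9, 10],
    [1, 0, 2, 3, 4, 7, 9, 5, 10, 6, 8],
    [2, 0, 1, 3, 4, 9, 7, 10, 5, 8, 6],
    [3, 0, 1, 2, 4, 6, 10, 7, 8, 5, 9],
    [4, 0, 1, 2, 3, 5, 8, 9, 10, 6, 7],
    [5, 0, 1, 2, 6, 3, 7, 8, 9, 4, 10],
    [6, 0, 1, 2, 5, 4, 9, 10, 7, 3, 8],
    [7, 0, 1, 2, 9, 8, 6, 4, 5, 10, 3],
    [8, 0, 1, 2, 10, 9, 3, 6, 4, 7, 5],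
    [9, 0, 1, 2, 7, 10, 5, 3, 6, 8, 4],
    [10, 0, 1, 2, 8, 7, 4, 5, 3, 9, 6]],[[0, 1, 2, 3, 4, 5, 6, 7, 8, 9, 10],
    [0, 2, 1, 3, 4, 10, 8, 9, 6, 7, 5],
    [0, 3, 1, 2, 4, 7, 5, 6, 9, 10, 8],
    [0, 4, 1, 2, 3, 9, 6, 5, 7, 8, 10],
    [0, 5, 1, 2, 6, 8, 4, 3, 10, 7, 9],
    [0, 6, 1, 2, 5, 10, 3, 4, 8, 9, 7],
    [0, 7, 1, 2, 9, 4, 10, 8, 3, 6, 5],
    [0, 8, 1, 2, 10, 6, 7, 9, 5, 3, 4],
    [0, 9, 1, 2, 7, 3, 8, 10, 4, 5, 6],
    [0, 10, 1, 2, 8, 5, 9, 7, 6, 4, 3]],[[0, 1, 2, 3, 4, 5, 6, 7, 8, 9, 10],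
    [0, 1, 3, 2, 4, 8, 9, 10, 5, 6, 7],
    [0, 1, 4, 2, 3, 10, 7, 8, 6, 5, 9],
    [0, 1, 5, 2, 6, 9, 10, 7, 4, 3, 8],
    [0, 1, 6, 2, 5, 7, 8, 9, 3, 4, 10],
    [0, 1, 7, 2, 9, 5, 3, 6, 10, 8, 4],
    [0, 1, 8, 2, 10, 4, 5, 3, 7, 9, 6],
    [0, 1, 9, 2, 7, 6, 4, 5, 8, 10, 3],
    [0, 1, 10, 2, 8, 3, 6, 4, 9, 7, 5]],[[0, 1, 2, 3, 4, 5, 6, 7, 8, 9, 10],
    [0, 1, 2, 4, 3, 6, 5, 9, 10, 7, 8],
    [0, 1, 2, 5, 6, 4, 3, 8, 9, 10, 7],
    [0, 1, 2, 6, 5, 3, 4, 10, 7, 8, 9],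
    [0, 1, 2, 7, 9, 10, 8, 4, 5, 3, 6],
    [0, 1, 2, 8, 10, 7, 9, 6, 4, 5, 3],
    [0, 1, 2, 9, 7, 8, 10, 3, 6, 4, 5],
    [0, 1, 2, 10, 8, 9, 7, 5, 3, 6, 4]]]

/-- Recipe determining an automorphism from its first values. -/
def recipe11 : List (Option (List ℕ)) :=
  [some [0, 1, 2, 3], none, some [0, 1, 2, 5], some [0, 1, 3, 5], some [0, 1, 4, 5], some [0, 1, 2, 7], some [0, 1, 2, 8]]

theorem checkSys11 : checkSys 11 4 5 std11 = true := by decide +kernel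

/-- All 4-sets. -/
def targets11 : List ℕ :=
   [15, 23, 39, 71, 135, 263, 519, 1031, 27, 43, 75, 139, 267, 523,
    1035, 51, 83, 147, 275, 531, 1043, 99, 163, 291, 547, 1059, 195, 323,
    579, 1091, 387, 643, 1155, 771, 1283, 1539, 29, 45, 77, 141, 269, 525,
    1037, 53, 85, 149, 277, 533, 1045, 101, 165, 293, 549, 1061, 197, 325,
    581, 1093, 389, 645, 1157, 773, 1285, 1541, 57, 89, 153, 281, 537, 1049,
    105, 169, 297, 553, 1065, 201, 329, 585, 1097, 393, 649, 1161, 777, 1289,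
    1545, 113, 177, 305, 561, 1073, 209, 337, 593, 1105, 401, 657, 1169, 785,
    1297, 1553, 225, 353, 609, 1121, 417, 673, 1185, 801, 1313, 1569, 449, 705,
    1217, 833, 1345, 1601, 897, 1409, 1665, 1793, 30, 46, 78, 142, 270, 526,
    1038, 54, 86, 150, 278, 534, 1046, 102, 166, 294, 550, 1062, 198, 326,
    582, 1094, 390, 646, 1158, 774, 1286, 1542, 58, 90, 154, 282, 538, 1050,
    106, 170, 298, 554, 1066, 202, 330, 586, 1098, 394, 650, 1162, 778, 1290,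
    1546, 114, 178, 306, 562, 1074, 210, 338, 594, 1106, 402, 658, 1170, 786,
    1298, 1554, 226, 354, 610, 1122, 418, 674, 1186, 802, 1314, 1570, 450, 706,
    1218, 834, 1346, 1602, 898, 1410, 1666, 1794, 60, 92, 156, 284, 540, 1052,
    108, 172, 300, 556, 1068, 204, 332, 588, 1100, 396, 652, 1164, 780, 1292,
    1548, 116, 180, 308, 564, 1076, 212, 340, 596, 1108, 404, 660, 1172, 788,
    1300, 1556, 228, 356, 612, 1124, 420, 676, 1188, 804, 1316, 1572, 452, 708,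
    1220, 836, 1348, 1604, 900, 1412, 1668, 1796, 120, 184, 312, 568, 1080, 216,
    344, 600, 1112, 408, 664, 1176, 792, 1304, 1560, 232, 360, 616, 1128, 424,
    680, 1192, 808, 1320, 1576, 456, 712, 1224, 840, 1352, 1608, 904, 1416, 1672,
    1800, 240, 368, 624, 1136, 432, 688, 1200, 816, 1328, 1584, 464, 720, 1232,
    848, 1360, 1616, 912, 1424, 1680, 1808, 480, 736, 1248, 864, 1376, 1632, 928,
    1440, 1696, 1824, 960, 1472, 1728, 1856, 1920]

theorem targets11_eq : ∀ T, T ∈ targets11 ↔ T ∈ masks 11 4 := by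
  have h1 : (targets11.all fun T => decide (T < 2 ^ 11) && sizeMask 11 T == 4) = true := by decide +kernel
  have h2 : ((List.range (2 ^ 11)).all fun m => sizeMask 11 m != 4 || (maskOf targets11).testBit m) = true := by
    decide +kernel
  simp only [List.all_eq_true, Bool.and_eq_true, decide_eq_true_eq, beq_iff_eq] at h1
  simp only [List.all_eq_true, Bool.or_eq_true, testBit_maskOf, decide_eq_true_eq, bne_iff_ne, List.mem_range] at h2
  intro T
  rw [masks, List.mem_filter, List.mem_range, beq_iff_eq]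
  exact ⟨h1 T, fun h => (h2 T h.1).resolve_left (not_not_intro h.2)⟩

theorem checkUniq11 : checkUniq 11 std11 seed11 targets11 certs11 = true := by decide +kernel

theorem checkTrans11 : checkTrans 11 4 std11 trans11 = true := by decide +kernel

theorem checkRigid11 : checkRigid 11 4 std11 recipe11 = true := by decide +kernel

theorem std11_masks : ∀ m ∈ std11, m ∈ masks 11 5 := by decide +kernel

theorem iso_std11 {α : Type*} [Fintype α] [DecidableEq α] (hα : Fintype.card α = 11) {B : Set (Finset α)}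
    (hB : Cfsg.IsSteinerSystem 4 5 B) : Cfsg.SetSystemIso B (stdSet 11 std11) := by
  obtain ⟨s, -, hs⟩ := Finset.exists_subset_card_eq (s := (Finset.univ : Finset α)) (n := 4)
    (by rw [Finset.card_univ, hα]; norm_num)
  obtain ⟨b, ⟨hb, -⟩, -⟩ := hB.2 s hs
  have hbc := hB.1 b hb
  let f : Fin 5 ↪ α := (b.equivFinOfCardEq hbc).symm.toEmbedding.trans (Function.Embedding.subtype _)
  obtain ⟨x, hx⟩ : ∃ x, x ∉ b := by
    by_contra hno
    push Not at hno
    rw [Finset.eq_univ_of_forall hno, Finset.card_univ, hα] at hbc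
    norm_num at hbc
  have hfb : ∀ i, f i ∈ b := fun i => ((b.equivFinOfCardEq hbc).symm i).2
  have hbeq : b = insert (f 2) (insert (f 3) (insert (f 4) ({f 0, f 1} : Finset α))) := by
    refine (Finset.eq_of_subset_of_card_le ?_ ?_).symm
    · simp [Finset.insert_subset_iff, hfb]
    · rw [hbc]
      repeat rw [Finset.card_insert_of_notMem (by simp [f.injective.eq_iff, Fin.ext_iff])]
      simp
  obtain ⟨z, hzinj, hz, hzB⟩ := exists_pins (D := ({f 0, f 1} : Finset α))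
    (c₀ := f 2) (c₁ := f 3) (c₂ := f 4) (x := x) hB
    (by repeat rw [Finset.card_insert_of_notMem (by simp [f.injective.eq_iff, Fin.ext_iff])]
        simp)
    (by simp [f.injective.eq_iff, Fin.ext_iff]) (by simp [f.injective.eq_iff, Fin.ext_iff])
    (by simp [f.injective.eq_iff, Fin.ext_iff]) (by simp [f.injective.eq_iff, Fin.ext_iff])
    (hbeq ▸ hb) (hbeq ▸ hx)
  rw [← hbeq] at hz
  let w : Fin 9 → α := Fin.append (fun i => f i) (Fin.cons x z)
  have hw : Function.Injective w := by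
    refine Fin.append_injective_iff.mpr ⟨f.injective, Fin.cons_injective_iff.mpr ⟨?_, hzinj⟩, ?_⟩
    · rintro ⟨j, hj⟩; exact (hz j).1 hj
    · intro i j
      refine Fin.cases (fun hj => hx ?_) (fun j hj => (hz j).2 ?_) j
      · simp only [Fin.cons_zero] at hj; exact hj ▸ hfb i
      · simp only [Fin.cons_succ] at hj; exact hj ▸ hfb i
  let e₀ : Fin 11 ≃ α := (Fintype.equivFinOfCardEq hα).symm
  obtain ⟨σ, hσ⟩ := Equiv.Perm.exists_smul_eq_embedding ((Fin.castLEEmb (by norm_num : 9 ≤ 11)).trans e₀.toEmbedding) ⟨w, hw⟩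
  let e : Fin 11 ≃ α := e₀.trans σ
  have he : ∀ i : Fin 9, e (Fin.castLE (by norm_num) i) = w i := fun i => DFunLike.congr_fun hσ i
  have p0 : e (0 : Fin 11) = f 0 := he 0
  have p1 : e (1 : Fin 11) = f 1 := he 1
  have p2 : e (2 : Fin 11) = f 2 := he 2
  have p3 : e (3 : Fin 11) = f 3 := he 3
  have p4 : e (4 : Fin 11) = f 4 := he 4
  have p5 : e (5 : Fin 11) = x := he 5
  have p6 : e (6 : Fin 11) = z 0 := he 6
  have p7 : e (7 : Fin 11) = z 1 := he 7
  have p8 : e (8 : Fin 11) = z 2 := he 8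
  have hB' := transport e.symm hB
  refine iso_trans ⟨e.symm, rfl⟩ (iso_std (t := 4) checkSys11 targets11_eq checkUniq11 hB' ?_)
  intro m hm
  have hmem : ∀ (l : List (Fin 11)) (b' : Finset α), b' ∈ B → (l.map e).toFinset = b' →
      m = maskOf (l.map Fin.val) → ∃ s ∈ (fun b => b.image e.symm) '' B, enc s = m := by
    intro l b' hb' hl hml
    refine ⟨b'.image e.symm, ⟨b', hb', rfl⟩, ?_⟩
    rw [hml]
    refine enc_eq_maskOf_map fun i => ?_
    rw [← hl]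
    simp
  simp only [seed11, List.mem_cons, List.not_mem_nil, or_false] at hm
  rcases hm with rfl | rfl | rfl | rfl
  · refine hmem [0, 1, 2, 3, 4] _ hb ?_ (by decide)
    rw [hbeq]
    ext a
    simp [p0, p1, p2, p3, p4, p5, p6, p7, p8]
    tauto
  · refine hmem [0, 1, 2, 5, 6] _ (hzB 0) ?_ (by decide)
    ext a
    simp [p0, p1, p2, p3, p4, p5, p6, p7, p8]
    tauto
  · refine hmem [0, 1, 3, 5, 7] _ (hzB 1) ?_ (by decide)
    ext a
    simp [p0, p1, p2, p3, p4, p5, p6, p7, p8]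
    tauto
  · refine hmem [0, 1, 4, 5, 8] _ (hzB 2) ?_ (by decide)
    ext a
    simp [p0, p1, p2, p3, p4, p5, p6, p7, p8]
    tauto

theorem sharp11 {α : Type*} [Fintype α] [DecidableEq α] (hα : Fintype.card α = 11) {B : Set (Finset α)}
    (hB : Cfsg.IsSteinerSystem 4 5 B) :
    MulAction.IsMultiplyPretransitive (Cfsg.setSystemAut B) α 4 ∧
      ∀ x : Fin 4 ↪ α, MulAction.stabilizer (Cfsg.setSystemAut B) x = ⊥ :=
  sharp_of_iso 4 (by norm_num) (iso_std11 hα hB) (transitive_std (by norm_num) checkTrans11)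
    (fun _ hσ hfix => rigid_std (by norm_num) std11_masks checkRigid11 hσ hfix)

end Cfsg.Agent.SmallSteiner
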