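/-
The Steiner system S(5, 6, 12): model, uniqueness and sharply 5-transitive automorphism group.

Main results (namespace `Cfsg.Agent.SmallSteiner`):
* `iso_std12` : every S(5, 6, 12) is isomorphic to the model;
* `sharp12` : its automorphism group is sharply 5-transitive.
-/
import Cfsg.Agent.Lib.Steiner.Aut

set_option autoImplicit false

namespace Cfsg.Agent.SmallSteiner

/-- The model. -/
def std12 : List ℕ :=
   [63, 207, 245, 250, 343, 366, 377, 411, 429, 438, 476, 483,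
    603, 615, 636, 669, 686, 691, 726, 745, 798, 811, 821, 845,
    882, 903, 952, 970, 977, 996, 1117, 1131, 1142, 1182, 1191, 1209,
    1235, 1260, 1295, 1331, 1340, 1370, 1381, 1429, 1450, 1478, 1481, 1520,
    1559, 1581, 1594, 1614, 1649, 1675, 1716, 1733, 1752, 1762, 1817, 1830,
    1859, 1876, 1896, 1932, 1938, 1953, 2142, 2157, 2163, 2199, 2219, 2236,
    2265, 2278, 2333, 2343, 2362, 2379, 2420, 2446, 2481, 2501, 2514, 2536,
    2575, 2614, 2617, 2645, 2666, 2714, 2725, 2755, 2764, 2800, 2835, 2860,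
    2886, 2904, 2913, 2953, 2964, 2978, 3099, 3118, 3125, 3143, 3192, 3213,
    3250, 3274, 3284, 3297, 3350, 3369, 3404, 3409, 3426, 3459, 3480, 3492,
    3612, 3619, 3657, 3666, 3684, 3718, 3729, 3752, 3845, 3850, 3888, 4032]

/-- The seed blocks. -/
def seed12 : List ℕ := [63, 207, 343, 615]

/-- Isomorphisms from the systems found by the search to the model. -/
def certs12 : List (List ℕ) :=
   [[0, 1, 2, 3, 4, 5, 6, 7, 8, 9, 10, 11],
    [0, 1, 2, 3, 4, 5, 9, 11, 10, 6, 8, 7],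
    [0, 1, 2, 3, 4, 5, 8, 10, 6, 11, 7, 9],
    [0, 1, 2, 3, 4, 5, 10, 8, 9, 7, 11, 6],
    [0, 1, 2, 3, 4, 5, 11, 9, 7, 8, 6, 10],
    [0, 1, 2, 3, 4, 5, 7, 6, 11, 10, 9, 8],
    [0, 1, 2, 3, 4, 5, 9, 11, 10, 6, 7, 8],
    [0, 1, 2, 3, 4, 5, 6, 7, 8, 9, 11, 10],
    [0, 1, 2, 3, 4, 5, 11, 9, 7, 8, 10, 6],
    [0, 1, 2, 3, 4, 5, 7, 6, 11, 10, 8, 9],
    [0, 1, 2, 3, 4, 5, 8, 10, 6, 11, 9, 7],
    [0, 1, 2, 3, 4, 5, 10, 8, 9, 7, 6, 11]]

/-- Automorphisms: level `i` fixes the points below `i` and moves `i` anywhere. -/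
def trans12 : List (List (List ℕ)) :=
  [[[0, 1, 2, 3, 4, 5, 6, 7, 8, 9, 10, 11],
    [1, 0, 2, 3, 4, 5, 9, 11, 10, 6, 8, 7],
    [2, 0, 1, 3, 4, 5, 11, 9, 7, 8, 6, 10],
    [3, 0, 1, 2, 4, 5, 6, 7, 9, 10, 11, 8],
    [4, 0, 1, 2, 3, 5, 9, 10, 6, 7, 8, 11],
    [5, 0, 1, 2, 3, 4, 11, 8, 7, 6, 10, 9],
    [6, 0, 1, 2, 3, 7, 10, 11, 5, 4, 9, 8],
    [7, 0, 1, 2, 3, 6, 8, 9, 4, 5, 11, 10],
    [8, 0, 1, 2, 3, 10, 6, 4, 11, 9, 5, 7],
    [9, 0, 1, 2, 3, 11, 5, 6, 8, 10, 7, 4],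
    [10, 0, 1, 2, 3, 8, 7, 5, 9, 11, 4, 6],
    [11, 0, 1, 2, 3, 9, 4, 7, 10, 8, 6, 5]],[[0, 1, 2, 3, 4, 5, 6, 7, 8, 9, 10, 11],
    [0, 2, 1, 3, 4, 5, 8, 10, 6, 11, 7, 9],
    [0, 3, 1, 2, 4, 5, 10, 8, 11, 6, 9, 7],
    [0, 4, 1, 2, 3, 5, 7, 11, 8, 9, 6, 10],
    [0, 5, 1, 2, 3, 4, 6, 9, 10, 11, 7, 8],
    [0, 6, 1, 2, 3, 7, 4, 8, 9, 10, 5, 11],
    [0, 7, 1, 2, 3, 6, 5, 10, 11, 8, 4, 9],
    [0, 8, 1, 2, 3, 10, 9, 7, 5, 6, 11, 4],
    [0, 9, 1, 2, 3, 11, 10, 4, 7, 5, 8, 6],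
    [0, 10, 1, 2, 3, 8, 11, 6, 4, 7, 9, 5],
    [0, 11, 1, 2, 3, 9, 8, 5, 6, 4, 10, 7]],[[0, 1, 2, 3, 4, 5, 6, 7, 8, 9, 10, 11],
    [0, 1, 3, 2, 4, 5, 11, 9, 10, 7, 8, 6],
    [0, 1, 4, 2, 3, 5, 8, 6, 7, 10, 11, 9],
    [0, 1, 5, 2, 3, 4, 10, 7, 6, 8, 9, 11],
    [0, 1, 6, 2, 3, 7, 9, 5, 4, 11, 8, 10],
    [0, 1, 7, 2, 3, 6, 11, 4, 5, 9, 10, 8],
    [0, 1, 8, 2, 3, 10, 5, 11, 9, 4, 7, 6],
    [0, 1, 9, 2, 3, 11, 7, 8, 10, 6, 4, 5],
    [0, 1, 10, 2, 3, 8, 4, 9, 11, 5, 6, 7],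
    [0, 1, 11, 2, 3, 9, 6, 10, 8, 7, 5, 4]],[[0, 1, 2, 3, 4, 5, 6, 7, 8, 9, 10, 11],
    [0, 1, 2, 4, 3, 5, 9, 10, 11, 6, 7, 8],
    [0, 1, 2, 5, 3, 4, 11, 8, 9, 7, 6, 10],
    [0, 1, 2, 6, 3, 7, 10, 11, 8, 5, 4, 9],
    [0, 1, 2, 7, 3, 6, 8, 9, 10, 4, 5, 11],
    [0, 1, 2, 8, 3, 10, 6, 4, 7, 11, 9, 5],
    [0, 1, 2, 9, 3, 11, 5, 6, 4, 8, 10, 7],
    [0, 1, 2, 10, 3, 8, 7, 5, 6, 9, 11, 4],
    [0, 1, 2, 11, 3, 9, 4, 7, 5, 10, 8, 6]],[[0, 1, 2, 3, 4, 5, 6, 7, 8, 9, 10, 11],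
    [0, 1, 2, 3, 5, 4, 7, 6, 10, 11, 8, 9],
    [0, 1, 2, 3, 6, 7, 5, 4, 9, 10, 11, 8],
    [0, 1, 2, 3, 7, 6, 4, 5, 11, 8, 9, 10],
    [0, 1, 2, 3, 8, 10, 11, 9, 5, 6, 4, 7],
    [0, 1, 2, 3, 9, 11, 8, 10, 7, 5, 6, 4],
    [0, 1, 2, 3, 10, 8, 9, 11, 4, 7, 5, 6],
    [0, 1, 2, 3, 11, 9, 10, 8, 6, 4, 7, 5]]]

/-- Recipe determining an automorphism from its first values. -/
def recipe12 : List (Option (List ℕ)) :=
  [some [0, 1, 2, 3, 4], none, some [0, 1, 2, 3, 6], some [0, 1, 2, 4, 6], some [0, 1, 2, 5, 6], some [0, 1, 2, 3, 8], some [0, 1, 2, 3, 9]]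

theorem checkSys12 : checkSys 12 5 6 std12 = true := by decide +kernel

/-- All 5-sets. -/
def targets12 : List ℕ :=
   [31, 47, 79, 143, 271, 527, 1039, 2063, 55, 87, 151, 279, 535, 1047,
    2071, 103, 167, 295, 551, 1063, 2087, 199, 327, 583, 1095, 2119, 391, 647,
    1159, 2183, 775, 1287, 2311, 1543, 2567, 3079, 59, 91, 155, 283, 539, 1051,
    2075, 107, 171, 299, 555, 1067, 2091, 203, 331, 587, 1099, 2123, 395, 651,
    1163, 2187, 779, 1291, 2315, 1547, 2571, 3083, 115, 179, 307, 563, 1075, 2099,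
    211, 339, 595, 1107, 2131, 403, 659, 1171, 2195, 787, 1299, 2323, 1555, 2579,
    3091, 227, 355, 611, 1123, 2147, 419, 675, 1187, 2211, 803, 1315, 2339, 1571,
    2595, 3107, 451, 707, 1219, 2243, 835, 1347, 2371, 1603, 2627, 3139, 899, 1411,
    2435, 1667, 2691, 3203, 1795, 2819, 3331, 3587, 61, 93, 157, 285, 541, 1053,
    2077, 109, 173, 301, 557, 1069, 2093, 205, 333, 589, 1101, 2125, 397, 653,
    1165, 2189, 781, 1293, 2317, 1549, 2573, 3085, 117, 181, 309, 565, 1077, 2101,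
    213, 341, 597, 1109, 2133, 405, 661, 1173, 2197, 789, 1301, 2325, 1557, 2581,
    3093, 229, 357, 613, 1125, 2149, 421, 677, 1189, 2213, 805, 1317, 2341, 1573,
    2597, 3109, 453, 709, 1221, 2245, 837, 1349, 2373, 1605, 2629, 3141, 901, 1413,
    2437, 1669, 2693, 3205, 1797, 2821, 3333, 3589, 121, 185, 313, 569, 1081, 2105,
    217, 345, 601, 1113, 2137, 409, 665, 1177, 2201, 793, 1305, 2329, 1561, 2585,
    3097, 233, 361, 617, 1129, 2153, 425, 681, 1193, 2217, 809, 1321, 2345, 1577,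
    2601, 3113, 457, 713, 1225, 2249, 841, 1353, 2377, 1609, 2633, 3145, 905, 1417,
    2441, 1673, 2697, 3209, 1801, 2825, 3337, 3593, 241, 369, 625, 1137, 2161, 433,
    689, 1201, 2225, 817, 1329, 2353, 1585, 2609, 3121, 465, 721, 1233, 2257, 849,
    1361, 2385, 1617, 2641, 3153, 913, 1425, 2449, 1681, 2705, 3217, 1809, 2833, 3345,
    3601, 481, 737, 1249, 2273, 865, 1377, 2401, 1633, 2657, 3169, 929, 1441, 2465,
    1697, 2721, 3233, 1825, 2849, 3361, 3617, 961, 1473, 2497, 1729, 2753, 3265, 1857,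
    2881, 3393, 3649, 1921, 2945, 3457, 3713, 3841, 62, 94, 158, 286, 542, 1054,
    2078, 110, 174, 302, 558, 1070, 2094, 206, 334, 590, 1102, 2126, 398, 654,
    1166, 2190, 782, 1294, 2318, 1550, 2574, 3086, 118, 182, 310, 566, 1078, 2102,
    214, 342, 598, 1110, 2134, 406, 662, 1174, 2198, 790, 1302, 2326, 1558, 2582,
    3094, 230, 358, 614, 1126, 2150, 422, 678, 1190, 2214, 806, 1318, 2342, 1574,
    2598, 3110, 454, 710, 1222, 2246, 838, 1350, 2374, 1606, 2630, 3142, 902, 1414,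
    2438, 1670, 2694, 3206, 1798, 2822, 3334, 3590, 122, 186, 314, 570, 1082, 2106,
    218, 346, 602, 1114, 2138, 410, 666, 1178, 2202, 794, 1306, 2330, 1562, 2586,
    3098, 234, 362, 618, 1130, 2154, 426, 682, 1194, 2218, 810, 1322, 2346, 1578,
    2602, 3114, 458, 714, 1226, 2250, 842, 1354, 2378, 1610, 2634, 3146, 906, 1418,
    2442, 1674, 2698, 3210, 1802, 2826, 3338, 3594, 242, 370, 626, 1138, 2162, 434,
    690, 1202, 2226, 818, 1330, 2354, 1586, 2610, 3122, 466, 722, 1234, 2258, 850,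
    1362, 2386, 1618, 2642, 3154, 914, 1426, 2450, 1682, 2706, 3218, 1810, 2834, 3346,
    3602, 482, 738, 1250, 2274, 866, 1378, 2402, 1634, 2658, 3170, 930, 1442, 2466,
    1698, 2722, 3234, 1826, 2850, 3362, 3618, 962, 1474, 2498, 1730, 2754, 3266, 1858,
    2882, 3394, 3650, 1922, 2946, 3458, 3714, 3842, 124, 188, 316, 572, 1084, 2108,
    220, 348, 604, 1116, 2140, 412, 668, 1180, 2204, 796, 1308, 2332, 1564, 2588,
    3100, 236, 364, 620, 1132, 2156, 428, 684, 1196, 2220, 812, 1324, 2348, 1580,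
    2604, 3116, 460, 716, 1228, 2252, 844, 1356, 2380, 1612, 2636, 3148, 908, 1420,
    2444, 1676, 2700, 3212, 1804, 2828, 3340, 3596, 244, 372, 628, 1140, 2164, 436,
    692, 1204, 2228, 820, 1332, 2356, 1588, 2612, 3124, 468, 724, 1236, 2260, 852,
    1364, 2388, 1620, 2644, 3156, 916, 1428, 2452, 1684, 2708, 3220, 1812, 2836, 3348,
    3604, 484, 740, 1252, 2276, 868, 1380, 2404, 1636, 2660, 3172, 932, 1444, 2468,
    1700, 2724, 3236, 1828, 2852, 3364, 3620, 964, 1476, 2500, 1732, 2756, 3268, 1860,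
    2884, 3396, 3652, 1924, 2948, 3460, 3716, 3844, 248, 376, 632, 1144, 2168, 440,
    696, 1208, 2232, 824, 1336, 2360, 1592, 2616, 3128, 472, 728, 1240, 2264, 856,
    1368, 2392, 1624, 2648, 3160, 920, 1432, 2456, 1688, 2712, 3224, 1816, 2840, 3352,
    3608, 488, 744, 1256, 2280, 872, 1384, 2408, 1640, 2664, 3176, 936, 1448, 2472,
    1704, 2728, 3240, 1832, 2856, 3368, 3624, 968, 1480, 2504, 1736, 2760, 3272, 1864,
    2888, 3400, 3656, 1928, 2952, 3464, 3720, 3848, 496, 752, 1264, 2288, 880, 1392,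
    2416, 1648, 2672, 3184, 944, 1456, 2480, 1712, 2736, 3248, 1840, 2864, 3376, 3632,
    976, 1488, 2512, 1744, 2768, 3280, 1872, 2896, 3408, 3664, 1936, 2960, 3472, 3728,
    3856, 992, 1504, 2528, 1760, 2784, 3296, 1888, 2912, 3424, 3680, 1952, 2976, 3488,
    3744, 3872, 1984, 3008, 3520, 3776, 3904, 3968]

theorem targets12_eq : ∀ T, T ∈ targets12 ↔ T ∈ masks 12 5 := by
  have h1 : (targets12.all fun T => decide (T < 2 ^ 12) && sizeMask 12 T == 5) = true := by decide +kernel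
  have h2 : ((List.range (2 ^ 12)).all fun m => sizeMask 12 m != 5 || (maskOf targets12).testBit m) = true := by
    decide +kernel
  simp only [List.all_eq_true, Bool.and_eq_true, decide_eq_true_eq, beq_iff_eq] at h1
  simp only [List.all_eq_true, Bool.or_eq_true, testBit_maskOf, decide_eq_true_eq, bne_iff_ne, List.mem_range] at h2
  intro T
  rw [masks, List.mem_filter, List.mem_range, beq_iff_eq]
  exact ⟨h1 T, fun h => (h2 T h.1).resolve_left (not_not_intro h.2)⟩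

theorem checkUniq12 : checkUniq 12 std12 seed12 targets12 certs12 = true := by decide +kernel

theorem checkTrans12 : checkTrans 12 5 std12 trans12 = true := by decide +kernel

theorem checkRigid12 : checkRigid 12 5 std12 recipe12 = true := by decide +kernel

theorem std12_masks : ∀ m ∈ std12, m ∈ masks 12 6 := by decide +kernel

theorem iso_std12 {α : Type*} [Fintype α] [DecidableEq α] (hα : Fintype.card α = 12) {B : Set (Finset α)}
    (hB : Cfsg.IsSteinerSystem 5 6 B) : Cfsg.SetSystemIso B (stdSet 12 std12) := by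
  obtain ⟨s, -, hs⟩ := Finset.exists_subset_card_eq (s := (Finset.univ : Finset α)) (n := 5)
    (by rw [Finset.card_univ, hα]; norm_num)
  obtain ⟨b, ⟨hb, -⟩, -⟩ := hB.2 s hs
  have hbc := hB.1 b hb
  let f : Fin 6 ↪ α := (b.equivFinOfCardEq hbc).symm.toEmbedding.trans (Function.Embedding.subtype _)
  obtain ⟨x, hx⟩ : ∃ x, x ∉ b := by
    by_contra hno
    push Not at hno
    rw [Finset.eq_univ_of_forall hno, Finset.card_univ, hα] at hbc
    norm_num at hbc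
  have hfb : ∀ i, f i ∈ b := fun i => ((b.equivFinOfCardEq hbc).symm i).2
  have hbeq : b = insert (f 3) (insert (f 4) (insert (f 5) ({f 0, f 1, f 2} : Finset α))) := by
    refine (Finset.eq_of_subset_of_card_le ?_ ?_).symm
    · simp [Finset.insert_subset_iff, hfb]
    · rw [hbc]
      repeat rw [Finset.card_insert_of_notMem (by simp [f.injective.eq_iff, Fin.ext_iff])]
      simp
  obtain ⟨z, hzinj, hz, hzB⟩ := exists_pins (D := ({f 0, f 1, f 2} : Finset α))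
    (c₀ := f 3) (c₁ := f 4) (c₂ := f 5) (x := x) hB
    (by repeat rw [Finset.card_insert_of_notMem (by simp [f.injective.eq_iff, Fin.ext_iff])]
        simp)
    (by simp [f.injective.eq_iff, Fin.ext_iff]) (by simp [f.injective.eq_iff, Fin.ext_iff])
    (by simp [f.injective.eq_iff, Fin.ext_iff]) (by simp [f.injective.eq_iff, Fin.ext_iff])
    (hbeq ▸ hb) (hbeq ▸ hx)
  rw [← hbeq] at hz
  let w : Fin 10 → α := Fin.append (fun i => f i) (Fin.cons x z)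
  have hw : Function.Injective w := by
    refine Fin.append_injective_iff.mpr ⟨f.injective, Fin.cons_injective_iff.mpr ⟨?_, hzinj⟩, ?_⟩
    · rintro ⟨j, hj⟩; exact (hz j).1 hj
    · intro i j
      refine Fin.cases (fun hj => hx ?_) (fun j hj => (hz j).2 ?_) j
      · simp only [Fin.cons_zero] at hj; exact hj ▸ hfb i
      · simp only [Fin.cons_succ] at hj; exact hj ▸ hfb i
  let e₀ : Fin 12 ≃ α := (Fintype.equivFinOfCardEq hα).symm
  obtain ⟨σ, hσ⟩ := Equiv.Perm.exists_smul_eq_embedding ((Fin.castLEEmb (by norm_num : 10 ≤ 12)).trans e₀.toEmbedding) ⟨w, hw⟩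
  let e : Fin 12 ≃ α := e₀.trans σ
  have he : ∀ i : Fin 10, e (Fin.castLE (by norm_num) i) = w i := fun i => DFunLike.congr_fun hσ i
  have p0 : e (0 : Fin 12) = f 0 := he 0
  have p1 : e (1 : Fin 12) = f 1 := he 1
  have p2 : e (2 : Fin 12) = f 2 := he 2
  have p3 : e (3 : Fin 12) = f 3 := he 3
  have p4 : e (4 : Fin 12) = f 4 := he 4
  have p5 : e (5 : Fin 12) = f 5 := he 5
  have p6 : e (6 : Fin 12) = x := he 6
  have p7 : e (7 : Fin 12) = z 0 := he 7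
  have p8 : e (8 : Fin 12) = z 1 := he 8
  have p9 : e (9 : Fin 12) = z 2 := he 9
  have hB' := transport e.symm hB
  refine iso_trans ⟨e.symm, rfl⟩ (iso_std (t := 5) checkSys12 targets12_eq checkUniq12 hB' ?_)
  intro m hm
  have hmem : ∀ (l : List (Fin 12)) (b' : Finset α), b' ∈ B → (l.map e).toFinset = b' →
      m = maskOf (l.map Fin.val) → ∃ s ∈ (fun b => b.image e.symm) '' B, enc s = m := by
    intro l b' hb' hl hml
    refine ⟨b'.image e.symm, ⟨b', hb', rfl⟩, ?_⟩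
    rw [hml]
    refine enc_eq_maskOf_map fun i => ?_
    rw [← hl]
    simp
  simp only [seed12, List.mem_cons, List.not_mem_nil, or_false] at hm
  rcases hm with rfl | rfl | rfl | rfl
  · refine hmem [0, 1, 2, 3, 4, 5] _ hb ?_ (by decide)
    rw [hbeq]
    ext a
    simp [p0, p1, p2, p3, p4, p5, p6, p7, p8, p9]
    tauto
  · refine hmem [0, 1, 2, 3, 6, 7] _ (hzB 0) ?_ (by decide)
    ext a
    simp [p0, p1, p2, p3, p4, p5, p6, p7, p8, p9]
    tauto
  · refine hmem [0, 1, 2, 4, 6, 8] _ (hzB 1) ?_ (by decide)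
    ext a
    simp [p0, p1, p2, p3, p4, p5, p6, p7, p8, p9]
    tauto
  · refine hmem [0, 1, 2, 5, 6, 9] _ (hzB 2) ?_ (by decide)
    ext a
    simp [p0, p1, p2, p3, p4, p5, p6, p7, p8, p9]
    tauto

theorem sharp12 {α : Type*} [Fintype α] [DecidableEq α] (hα : Fintype.card α = 12) {B : Set (Finset α)}
    (hB : Cfsg.IsSteinerSystem 5 6 B) :
    MulAction.IsMultiplyPretransitive (Cfsg.setSystemAut B) α 5 ∧
      ∀ x : Fin 5 ↪ α, MulAction.stabilizer (Cfsg.setSystemAut B) x = ⊥ :=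
  sharp_of_iso 5 (by norm_num) (iso_std12 hα hB) (transitive_std (by norm_num) checkTrans12)
    (fun _ hσ hfix => rigid_std (by norm_num) std12_masks checkRigid12 hσ hfix)

end Cfsg.Agent.SmallSteiner
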